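import Cfsg.Agent.H288.L34.HfixRho
import Cfsg.Agent.H280.L34.V5
import Cfsg.Agent.H904.L34.Uq

/-! (D6) on the Lie algebra over `F₂`, for the matrices `gD gP gW gJ` (S5917, type D): the space `K3` of the traces of the
quaternion group on the vectors fixed by `E` is explicit. -/

set_option autoImplicit false

namespace Cfsg.Agent.H288.L34

open Matrix Cfsg.Agent.H691.L34 Cfsg.Agent.H550.L34
open Cfsg.Agent.H904.L34 (VE mem_VE RR)
open Cfsg.Agent.H904.L34.Unit (T8 T8_apply)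
open Cfsg.Agent.H904.L34.Uq (MDP mem_MDP facts T8_VR)
open Cfsg.Agent.H437.L34
open Cfsg.Agent.H906.L34 (sq2 sq2_add sq2_br rho_sq2)
open Cfsg.Agent.H939.L64 (E2 L2)

variable {F : Type} [Field F] [Fintype F]

/-- the traces of the quaternion group on the vectors fixed by `E` -/
noncomputable def TrE (f : ProjectiveSpecialLinearGroup (Fin 3) F →* E2) {ω : F} (h : Om ω) : Submodule (ZMod 2) L2 :=
  (MDP (rho f) h).map (T8 (rho f) (gW h) (gJ h))

/-- **(D6)** every module of type 9 in the Lie algebra over `F₂` is abelian -/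
theorem hfixD_om (hF : Fintype.card F = 4) (f : ProjectiveSpecialLinearGroup (Fin 3) F →* E2)
    (hf : Function.Injective f) (h0 : fixAll (rho f) = ⊥) {ω : F} (h : Om ω)
    (h20 : Module.finrank (ZMod 2) (LinearMap.ker (rho f (gD h) - LinearMap.id) ⊓
      LinearMap.ker (rho f (gP h) - LinearMap.id) ⊓ LinearMap.ker (rho f (gZ h) - LinearMap.id) :
        Submodule (ZMod 2) L2) = 20)
    {Z0 : Submodule (ZMod 2) L2} (hZR : Z0 ≤ VE (rho f) (RR hF)) (h2 : Module.finrank (ZMod 2) Z0 = 2)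
    (hKZ : TrE f h ⊓ Z0 = ⊥)
    (hsK : ∀ k ∈ TrE f h, sq2 k ∈ TrE f h) (hsZ : ∀ t ∈ Z0, sq2 t ∈ Z0) (hsZ0 : ∀ t ∈ Z0, sq2 t = 0 → t = 0)
    (hbK : ∀ k ∈ TrE f h, ∀ t ∈ Z0, be k t = 0) (hbZ : ∀ t ∈ Z0, ∀ t' ∈ Z0, be t t' = 0)
    (hev : ∀ t ∈ Z0, ∀ t' ∈ Z0, t ≠ t' → ¬ (sq2 t = t' ∧ sq2 t' = t))
    {b : Bool} {φ : M3 F → L2} (hφ : Nin (rho f) b φ) : be (φ d1) (φ d2) = 0 := by
  obtain ⟨n5, n7, hn5, hn7, hd⟩ := dims_rho hF f hf
  obtain ⟨B, hB, hs, hi⟩ := exists_form_rho f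
  have hc := ct_rho f
  have fc := facts h hF hc hn5 hn7 hd h20
  have hPL : PLh (rho f) := fun A B hA hB h => H482.LF.PL hF hc hA hB h
  have hsc : L34.SC (rho f) := fun W hW => H482.LF.simp_cases hF hc hW
  have hV5 := H280.L34.hV5' h hF hc hn5 hn7 hd h20 hB hs hi h0
  exact hfixD hF hsc hPL hn5 hn7 hd B hB hi h0 (brk_rho f) sq2_add (rho_sq2 f) sq2_br
    (sq2_of_two hF (T := TrE f h) fc.2.2.2 (brk_rho f) sq2_add (rho_sq2 f) le_rfl (T8_VR h hF hc) fc.2.2.1 hZR h2 hKZ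
      hsK hsZ hsZ0 hbK hbZ hev hV5) hφ

end Cfsg.Agent.H288.L34
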