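import Cfsg.Agent.H288.L34.LamEmb
import Cfsg.Agent.H356.L34.LamDims

/-! `lam_emb` of helper691's list (S5917). -/

set_option autoImplicit false

namespace Cfsg.Agent.H288.L34

open Matrix Cfsg.Agent.H691.L34

/-- (I-Lc) the exterior square embedded -/
theorem lam_emb {F : Type} [Field F] [Fintype F] {V : Type} [AddCommGroup V] [Module (ZMod 2) V] [Module.Finite (ZMod 2) V]
    {ρ : Representation (ZMod 2) (G3 F) V} (hF : Fintype.card F = 4) {β : V →ₗ[ZMod 2] V →ₗ[ZMod 2] V} (hβ : Brk ρ β)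
    {b : Bool} {W : Submodule (ZMod 2) V} (hW : IsNine ρ b W) (h : 36 ≤ Module.finrank (ZMod 2) (bsp β W)) :
    Dims ρ (bsp β W) 36 12 8 6 ∧ Inv ρ (bsp β W) ∧ ∃ N, IsNine ρ (!b) N ∧ N ≤ bsp β W ∧
      ∀ X : Submodule (ZMod 2) V, Inv ρ X → X ≤ bsp β W → X ≠ ⊥ → N ≤ X :=
  ⟨H356.L34.lam_dims hF hβ hW h, lam_emb_of hF hβ hW h⟩

end Cfsg.Agent.H288.L34
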